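import Mathlib.AlgebraicGeometry.Pullbacks
import Mathlib.AlgebraicGeometry.Morphisms.FinitePresentation

/-!
# Separating a closed set from a fibre at a finitely presented stage
-/

set_option autoImplicit false
set_option linter.style.haveILetI false
set_option backward.isDefEq.respectTransparency false

universe u

open CategoryTheory CategoryTheory.Limits AlgebraicGeometry TensorProduct MvPolynomial

namespace Groth.Agent.SepNbhd14

variable {R B A : Type u} [CommRing R] [CommRing B] [CommRing A] [Algebra R B] [Algebra R A]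

/-- Evaluation of the polynomial ring on a finite set of elements. -/
noncomputable abbrev ev (F : Finset A) : MvPolynomial {a // a ∈ F} R →ₐ[R] A := aeval Subtype.val

/-- The base change of the evaluation. -/
noncomputable abbrev ψ (F : Finset A) : B ⊗[R] MvPolynomial {a // a ∈ F} R →ₐ[R] B ⊗[R] A :=
  Algebra.TensorProduct.map (AlgHom.id R B) (ev F)

theorem exists_lift (c : B ⊗[R] A) : ∃ F₀ : Finset A, ∀ F, F₀ ⊆ F → c ∈ Set.range (ψ (B := B) F) := by
  classical
  induction c using TensorProduct.induction_on with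
  | zero => exact ⟨∅, fun F _ => ⟨0, map_zero _⟩⟩
  | tmul b a =>
    refine ⟨{a}, fun F hF => ⟨b ⊗ₜ X ⟨a, hF (Finset.mem_singleton_self a)⟩, ?_⟩⟩
    simp [ψ, ev]
  | add x y hx hy =>
    obtain ⟨F₁, h₁⟩ := hx
    obtain ⟨F₂, h₂⟩ := hy
    refine ⟨F₁ ∪ F₂, fun F hF => ?_⟩
    obtain ⟨x', rfl⟩ := h₁ F (Finset.union_subset_left hF)
    obtain ⟨y', rfl⟩ := h₂ F (Finset.union_subset_right hF)
    exact ⟨x' + y', map_add _ _ _⟩

theorem exists_lift_ideal (p : Ideal A) (x : B ⊗[R] A)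
    (hx : x ∈ p.map (Algebra.TensorProduct.includeRight (R := R) (A := B) (B := A))) :
    ∃ F₀ : Finset A, ∀ F, F₀ ⊆ F → ∃ x' ∈ (p.comap (ev (R := R) F)).map
      (Algebra.TensorProduct.includeRight (R := R) (A := B) (B := MvPolynomial {a // a ∈ F} R)), ψ F x' = x := by
  classical
  induction hx using Submodule.span_induction with
  | mem x hx =>
    obtain ⟨a, ha, rfl⟩ := hx
    refine ⟨{a}, fun F hF => ⟨1 ⊗ₜ X ⟨a, hF (Finset.mem_singleton_self a)⟩, Ideal.mem_map_of_mem _ ?_, ?_⟩⟩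
    · show ev F (X ⟨a, _⟩) ∈ p
      simpa [ev] using ha
    · simp [ψ, ev]
  | zero => exact ⟨∅, fun F _ => ⟨0, Ideal.zero_mem _, map_zero _⟩⟩
  | add x y _ _ hx hy =>
    obtain ⟨F₁, h₁⟩ := hx
    obtain ⟨F₂, h₂⟩ := hy
    refine ⟨F₁ ∪ F₂, fun F hF => ?_⟩
    obtain ⟨x', hx', rfl⟩ := h₁ F (Finset.union_subset_left hF)
    obtain ⟨y', hy', rfl⟩ := h₂ F (Finset.union_subset_right hF)
    exact ⟨x' + y', Ideal.add_mem _ hx' hy', map_add _ _ _⟩
  | smul r x _ hx =>
    obtain ⟨F₁, h₁⟩ := hx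
    obtain ⟨F₂, h₂⟩ := exists_lift r
    refine ⟨F₁ ∪ F₂, fun F hF => ?_⟩
    obtain ⟨x', hx', rfl⟩ := h₁ F (Finset.union_subset_left hF)
    obtain ⟨r', rfl⟩ := h₂ F (Finset.union_subset_right hF)
    exact ⟨r' * x', Ideal.mul_mem_left _ r' hx', map_mul _ _ _⟩

/-- A closed set of primes missing the fibre over a prime is defined over a finitely presented algebra. -/
theorem exists_stage (J : Ideal (B ⊗[R] A)) (p : Ideal A) [p.IsPrime]
    (h : ∀ Q : Ideal (B ⊗[R] A), Q.IsPrime → J ≤ Q →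
      Q.comap (Algebra.TensorProduct.includeRight (R := R) (A := B) (B := A)) ≠ p) :
    ∃ (F : Finset A) (j : B ⊗[R] MvPolynomial {a // a ∈ F} R), ψ F j ∈ J ∧
      ∀ Q : Ideal (B ⊗[R] MvPolynomial {a // a ∈ F} R), Q.IsPrime → j ∈ Q →
        Q.comap (Algebra.TensorProduct.includeRight (R := R) (A := B) (B := MvPolynomial {a // a ∈ F} R)) ≠
          p.comap (ev (R := R) F) := by
  classical
  let i : A →ₐ[R] B ⊗[R] A := Algebra.TensorProduct.includeRight
  obtain ⟨_, ⟨s, hs, rfl⟩, hsI⟩ : ∃ z ∈ p.primeCompl.map i, z ∈ J ⊔ p.map i := by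
    by_contra hne
    obtain ⟨Q, hQ, hle, hd⟩ := Ideal.exists_le_prime_disjoint (J ⊔ p.map i) (p.primeCompl.map i)
      (Set.disjoint_right.2 fun z hz hz' => hne ⟨z, hz, hz'⟩)
    refine h Q hQ (le_sup_left.trans hle) (le_antisymm (fun a ha => ?_)
      (Ideal.map_le_iff_le_comap.1 (le_sup_right.trans hle)))
    by_contra hap
    exact Set.disjoint_left.1 hd ha ⟨a, hap, rfl⟩
  obtain ⟨u, hu, x, hx, hux⟩ := Submodule.mem_sup.1 hsI
  obtain ⟨F₀, hF₀⟩ := exists_lift_ideal p x hx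
  obtain ⟨x', hx', hxx⟩ := hF₀ (insert s F₀) (Finset.subset_insert _ _)
  let F := insert s F₀
  let s' : MvPolynomial {a // a ∈ F} R := X ⟨s, Finset.mem_insert_self _ _⟩
  refine ⟨F, (1 : B) ⊗ₜ s' - x', ?_, fun Q hQ hjQ hQp => ?_⟩
  · rw [map_sub, hxx, show ψ F ((1 : B) ⊗ₜ s') = i s by simp [ψ, ev, s', i],
      ← hux, add_sub_cancel_right]
    exact hu
  · have hx'Q : x' ∈ Q := (Ideal.map_le_iff_le_comap.2 hQp.ge) hx'
    have hsQ : (1 : B) ⊗ₜ s' ∈ Q := by simpa using Q.add_mem hjQ hx'Q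
    have : s' ∈ p.comap (ev (R := R) F) := hQp.le hsQ
    exact hs (by simpa [s', ev] using this)

variable (R B A) in
/-- The same on spectra. -/
theorem exists_stage_spec
    (C : Set ↥(pullback (Spec.map (CommRingCat.ofHom (algebraMap R B))) (Spec.map (CommRingCat.ofHom (algebraMap R A)))))
    (hC : IsClosed C) (v : ↥(Spec (CommRingCat.of A)))
    (hv : v ∉ (pullback.snd (Spec.map (CommRingCat.ofHom (algebraMap R B)))
      (Spec.map (CommRingCat.ofHom (algebraMap R A)))) '' C) :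
    ∃ (Z : Scheme.{u}) (_ : IsAffine Z) (b : Z ⟶ Spec (CommRingCat.of R)) (_ : LocallyOfFinitePresentation b)
      (a : Spec (CommRingCat.of A) ⟶ Z) (w : a ≫ b = Spec.map (CommRingCat.ofHom (algebraMap R A)))
      (C' : Set ↥(pullback (Spec.map (CommRingCat.ofHom (algebraMap R B))) b)),
      IsClosed C' ∧
      (pullback.map (Spec.map (CommRingCat.ofHom (algebraMap R B))) (Spec.map (CommRingCat.ofHom (algebraMap R A)))
        (Spec.map (CommRingCat.ofHom (algebraMap R B))) b (𝟙 _) a (𝟙 _) (by simp)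
        (by rw [w, Category.comp_id])) '' C ⊆ C' ∧
      a v ∉ (pullback.snd (Spec.map (CommRingCat.ofHom (algebraMap R B))) b) '' C' := by
  let e := pullbackSpecIso R B A
  have hC₁ : IsClosed (e.inv ⁻¹' C) := hC.preimage e.inv.continuous
  obtain ⟨J, hJ⟩ := (PrimeSpectrum.isClosed_iff_zeroLocus_ideal _).1 hC₁
  obtain ⟨F, j, hj, hjQ⟩ := exists_stage (R := R) (B := B) J v.asIdeal fun Q hQ hle hQv => by
    let z : ↥(Spec (CommRingCat.of (B ⊗[R] A))) := ⟨Q, hQ⟩
    have hz : z ∈ e.inv ⁻¹' C := by rw [hJ]; exact hle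
    refine hv ⟨e.inv z, hz, ?_⟩
    rw [← Scheme.Hom.comp_apply, pullbackSpecIso_inv_snd]
    exact PrimeSpectrum.ext hQv
  let P := MvPolynomial {a // a ∈ F} R
  let e' := pullbackSpecIso R B P
  let a : Spec (CommRingCat.of A) ⟶ Spec (CommRingCat.of P) := Spec.map (CommRingCat.ofHom (ev F).toRingHom)
  have w : a ≫ Spec.map (CommRingCat.ofHom (algebraMap R P)) = Spec.map (CommRingCat.ofHom (algebraMap R A)) := by
    rw [← Spec.map_comp, ← CommRingCat.ofHom_comp]
    congr 2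
    exact (ev F).comp_algebraMap
  let κ := pullback.map (Spec.map (CommRingCat.ofHom (algebraMap R B))) (Spec.map (CommRingCat.ofHom (algebraMap R A)))
    (Spec.map (CommRingCat.ofHom (algebraMap R B))) (Spec.map (CommRingCat.ofHom (algebraMap R P))) (𝟙 _) a (𝟙 _)
    (by simp) (by rw [w, Category.comp_id])
  have hκ : e.inv ≫ κ ≫ e'.hom = Spec.map (CommRingCat.ofHom (ψ (R := R) (B := B) F).toRingHom) := by
    rw [← Category.assoc, ← Iso.eq_comp_inv]
    apply pullback.hom_ext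
    · simp only [κ, e, e', Category.assoc, pullback.lift_fst, Category.comp_id, pullbackSpecIso_inv_fst,
        ← Spec.map_comp, ← CommRingCat.ofHom_comp]
      congr 2
      ext b
      simp [ψ]
    · simp only [κ, e, e', Category.assoc, pullback.lift_snd, pullbackSpecIso_inv_snd,
        pullbackSpecIso_inv_snd_assoc, a, ← Spec.map_comp, ← CommRingCat.ofHom_comp]
      congr 2
  refine ⟨Spec (CommRingCat.of P), inferInstance, Spec.map (CommRingCat.ofHom (algebraMap R P)), ?_, a, w,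
    e'.hom ⁻¹' PrimeSpectrum.zeroLocus {j}, (PrimeSpectrum.isClosed_zeroLocus _).preimage e'.hom.continuous, ?_, ?_⟩
  · rw [HasRingHomProperty.Spec_iff (P := @LocallyOfFinitePresentation), CommRingCat.hom_ofHom,
      RingHom.finitePresentation_algebraMap]
    infer_instance
  · rintro _ ⟨z, hz, rfl⟩
    obtain ⟨z₁, rfl⟩ : z ∈ Set.range e.inv := ⟨e.hom z, by simp [← Scheme.Hom.comp_apply]⟩
    have hz₁ : z₁ ∈ PrimeSpectrum.zeroLocus (J : Set (B ⊗[R] A)) := hJ ▸ hz
    refine Set.singleton_subset_iff.2 ?_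
    have hz₂ : (κ ≫ e'.hom) (e.inv z₁) = Spec.map (CommRingCat.ofHom (ψ (R := R) (B := B) F).toRingHom) z₁ := by
      rw [← hκ]; rfl
    rw [← Scheme.Hom.comp_apply, hz₂]
    exact hz₁ hj
  · rintro ⟨z, hz, hzv⟩
    have h := congrArg (fun f => f z) (pullbackSpecIso_hom_snd R B P)
    simp only [Scheme.Hom.comp_apply] at h
    refine hjQ (e'.hom z).asIdeal inferInstance (hz (Set.mem_singleton j)) ?_
    exact congrArg PrimeSpectrum.asIdeal (h.trans hzv)

end Groth.Agent.SepNbhd14
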